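import Groth.Agent.Csa77.Basic
import Groth.Agent.Csa25.Splitting
import Groth.Agent.Csa25.Subfield
import Groth.Agent.Csa25.BaseChange
import Mathlib.FieldTheory.SeparableClosure
import Mathlib.FieldTheory.Galois.Basic
import Mathlib.LinearAlgebra.GeneralLinearGroup.AlgEquiv

set_option autoImplicit false
open scoped TensorProduct
open Module

namespace Groth.Agent.Csa77

universe u v w

theorem centralizer_eq_self_of_maximal {k : Type u} [Field k] {D : Type v} [DivisionRing D]
    [Algebra k D] (L : Subalgebra k D) (hcomm : ∀ x ∈ L, ∀ y ∈ L, x * y = y * x)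
    (hmax : ∀ L' : Subalgebra k D, (∀ x ∈ L', ∀ y ∈ L', x * y = y * x) → L ≤ L' → L' = L) :
    Subalgebra.centralizer k (L : Set D) = L := by
  refine le_antisymm (fun z hz => ?_) (fun z hz => ?_)
  · rw [Subalgebra.mem_centralizer_iff] at hz
    let gen : Set D := insert z (L : Set D)
    have hgen : ∀ a ∈ gen, ∀ b ∈ gen, a * b = b * a := by
      rintro a (rfl | ha) b (rfl | hb)
      · rfl
      · exact (hz b hb).symm
      · exact hz a ha
      · exact hcomm a ha b hb
    let S' := Algebra.adjoin k gen
    have hS'comm : ∀ a ∈ S', ∀ b ∈ S', a * b = b * a := fun a ha b hb => by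
      have h1 : S' ≤ Subalgebra.centralizer k gen := Algebra.adjoin_le fun a ha => by
        rw [SetLike.mem_coe, Subalgebra.mem_centralizer_iff]; exact fun g hg => hgen g hg a ha
      have h2 : S' ≤ Subalgebra.centralizer k (S' : Set D) := Algebra.adjoin_le fun g hg => by
        rw [SetLike.mem_coe, Subalgebra.mem_centralizer_iff]
        exact fun b hb => ((Subalgebra.mem_centralizer_iff k).mp (h1 hb) g hg).symm
      exact (Subalgebra.mem_centralizer_iff k).mp (h2 hb) a ha
    rw [← hmax S' hS'comm fun y hy => Algebra.subset_adjoin (Set.mem_insert_of_mem _ hy)]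
    exact Algebra.subset_adjoin (Set.mem_insert _ _)
  · rw [Subalgebra.mem_centralizer_iff]
    exact fun y hy => hcomm y hy z hz

theorem isSimpleRing_subalgebra {k : Type u} [Field k] {D : Type v} [DivisionRing D]
    [Algebra k D] [FiniteDimensional k D] (L : Subalgebra k D) : IsSimpleRing L := by
  have : IsArtinianRing L := IsArtinianRing.of_finite k L
  let : DivisionRing L := DivisionRing.ofIsUnitOrEqZero fun a =>
    or_iff_not_imp_right.mpr fun ha =>
      IsArtinianRing.isUnit_of_mem_nonZeroDivisors (mem_nonZeroDivisors_of_ne_zero ha)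
  infer_instance

theorem finrank_eq_sq_of_maximal {k : Type u} [Field k] {D : Type v} [DivisionRing D]
    [Algebra k D] [Algebra.IsCentral k D] [FiniteDimensional k D]
    (L : Subalgebra k D) (hcomm : ∀ x ∈ L, ∀ y ∈ L, x * y = y * x)
    (hmax : ∀ L' : Subalgebra k D, (∀ x ∈ L', ∀ y ∈ L', x * y = y * x) → L ≤ L' → L' = L) :
    finrank k D = finrank k L ^ 2 := by
  have := isSimpleRing_subalgebra L
  have h := Csa25.finrank_mul_finrank_centralizer L.val
  rw [range_val, centralizer_eq_self_of_maximal L hcomm hmax] at h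
  rw [← h, sq]

theorem exists_separable_maximal_subalgebra (k : Type u) [Field k] (D : Type v) [DivisionRing D]
    [Algebra k D] [Algebra.IsCentral k D] [FiniteDimensional k D] :
    ∃ L : Subalgebra k D, (∀ x ∈ L, ∀ y ∈ L, x * y = y * x) ∧
      (∀ L' : Subalgebra k D, (∀ x ∈ L', ∀ y ∈ L', x * y = y * x) → L ≤ L' → L' = L) ∧
      Algebra.IsSeparable k L := by
  obtain ⟨L, _, _, ι, hfin, hsep, hdim⟩ := Csa25.exists_separable_maximal_subfield k D
  have hinj : Function.Injective ι := ι.toRingHom.injective
  let e : L ≃ₐ[k] ι.range := AlgEquiv.ofInjective ι hinj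
  have hcomm : ∀ x ∈ ι.range, ∀ y ∈ ι.range, x * y = y * x := by
    rintro _ ⟨a, rfl⟩ _ ⟨b, rfl⟩
    show ι a * ι b = ι b * ι a
    rw [← map_mul, mul_comm, map_mul]
  refine ⟨ι.range, hcomm, fun L' hL' hle => ?_, AlgEquiv.Algebra.isSeparable e⟩
  have hLs := isSimpleRing_subalgebra ι.range
  have h := Csa25.finrank_mul_finrank_centralizer ι.range.val
  rw [range_val, ← e.toLinearEquiv.finrank_eq, ← hdim] at h
  have hC : finrank k (Subalgebra.centralizer k (ι.range : Set D)) = finrank k L :=
    Nat.eq_of_mul_eq_mul_left Module.finrank_pos h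
  have hle' : L' ≤ Subalgebra.centralizer k (ι.range : Set D) := fun x hx => by
    rw [Subalgebra.mem_centralizer_iff]
    exact fun y hy => hL' y (hle hy) x hx
  symm
  apply Subalgebra.toSubmodule_injective
  refine Submodule.eq_of_le_of_finrank_le hle ?_
  calc finrank k L' ≤ finrank k (Subalgebra.centralizer k (ι.range : Set D)) :=
        LinearMap.finrank_le_finrank_of_injective (f := (Subalgebra.inclusion hle').toLinearMap)
          (Subalgebra.inclusion_injective hle')
    _ = finrank k ι.range := by rw [hC, e.toLinearEquiv.finrank_eq]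

section Descent

variable {k : Type u} [Field k] {A : Type v} [Ring A] [Algebra k A] {K : Type w} [Field K] [Algebra k K]

theorem csa_of_splits (h : Curves.Splits k A K) :
    Algebra.IsCentral k A ∧ IsSimpleRing A ∧ FiniteDimensional k A := by
  classical
  obtain ⟨n, hn, ⟨e⟩⟩ := h
  have : NeZero n := ⟨hn⟩
  have hfinK : Module.Finite K (K ⊗[k] A) := Module.Finite.equiv e.toLinearEquiv.symm
  have : IsSimpleRing (K ⊗[k] A) := .of_ringEquiv e.toRingEquiv.symm inferInstance
  have : Algebra.IsCentral K (K ⊗[k] A) := Csa25.isCentral_of_algEquiv e.symm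
  have hfin : FiniteDimensional k A := by
    have hr := Module.rank_lt_aleph0 K (K ⊗[k] A)
    rw [Module.rank_baseChange, Cardinal.lift_lt_aleph0] at hr
    exact Module.rank_lt_aleph0_iff.1 hr
  have : Nontrivial A := by
    by_contra hA
    have := not_nontrivial_iff_subsingleton.1 hA
    have : Subsingleton (K ⊗[k] A) := ⟨fun x y => by
      have h0 : ∀ z : K ⊗[k] A, z = 0 := fun z => by
        induction z using TensorProduct.induction_on with
        | zero => rfl
        | tmul a b => rw [Subsingleton.elim b 0, TensorProduct.tmul_zero]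
        | add a b ha hb => rw [ha, hb, add_zero]
      rw [h0 x, h0 y]⟩
    exact false_of_nontrivial_of_subsingleton (K ⊗[k] A)
  refine ⟨⟨fun x hx => ?_⟩, ?_, hfin⟩
  · have hc : (1 : K) ⊗ₜ[k] x ∈ Subalgebra.center K (K ⊗[k] A) := by
      rw [Subalgebra.mem_center_iff]
      intro z
      induction z using TensorProduct.induction_on with
      | zero => simp
      | tmul c a => simp [Subalgebra.mem_center_iff.1 hx a]
      | add a b ha hb => rw [add_mul, mul_add, ha, hb]
    obtain ⟨c, hc⟩ := Algebra.mem_bot.1 (Algebra.IsCentral.out hc)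
    change c ⊗ₜ[k] (1 : A) = (1 : K) ⊗ₜ[k] x at hc
    rw [Algebra.mem_bot]
    by_contra hxk
    have hx' : x ∉ Submodule.span k {(1 : A)} := by
      rw [Submodule.mem_span_singleton]
      rintro ⟨r, hr⟩
      exact hxk ⟨r, by rw [← hr, Algebra.algebraMap_eq_smul_one]⟩
    obtain ⟨φ, hφx, hφ⟩ := Submodule.exists_dual_map_eq_bot_of_notMem hx' inferInstance
    have h1 : φ 1 = 0 := by
      have : φ 1 ∈ (Submodule.span k {(1 : A)}).map φ := ⟨1, Submodule.mem_span_singleton_self 1, rfl⟩
      simpa [hφ] using this
    have := congr_arg (fun z => TensorProduct.rid k K (LinearMap.lTensor K φ z)) hc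
    simp [h1] at this
    refine hφx ((algebraMap k K).injective ?_)
    rw [map_zero, Algebra.algebraMap_eq_smul_one, ← this]
  · rw [isSimpleRing_iff]
    refine IsSimpleOrder.mk fun I => ?_
    by_contra hI
    push Not at hI
    obtain ⟨hbot, htop⟩ := hI
    let S : Submodule k A :=
      { carrier := I
        add_mem' := fun ha hb => I.add_mem ha hb
        zero_mem' := I.zero_mem
        smul_mem' := fun c a ha => by
          rw [Algebra.smul_def]; exact I.mul_mem_left _ _ ha }
    have h1 : (1 : A) ∉ S := fun h => htop ((TwoSidedIdeal.one_mem_iff I).1 h)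
    obtain ⟨φ, hφ1, hφ⟩ := Submodule.exists_dual_map_eq_bot_of_notMem h1 inferInstance
    obtain ⟨a, ha, ha0⟩ : ∃ a ∈ I, a ≠ 0 := by
      by_contra hne
      push Not at hne
      exact hbot ((TwoSidedIdeal.ext fun x => ⟨fun hx => by rw [hne x hx]; exact zero_mem _,
        fun hx => by rw [(TwoSidedIdeal.mem_bot A).1 hx]; exact I.zero_mem⟩))
    let T : TwoSidedIdeal (K ⊗[k] A) := TwoSidedIdeal.span {(1 : K) ⊗ₜ[k] a}
    have hT : (1 : K ⊗[k] A) ∈ T := by
      rcases IsSimpleRing.simple.eq_bot_or_eq_top T with h | h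
      · exfalso
        have hm : (1 : K) ⊗ₜ[k] a ∈ T := TwoSidedIdeal.subset_span rfl
        rw [h, TwoSidedIdeal.mem_bot] at hm
        exact ha0 (Algebra.TensorProduct.includeRight_injective (A := K) (RingHom.injective _)
          (by simpa using hm))
      · rw [h]; trivial
    let W : TwoSidedIdeal (K ⊗[k] A) := TwoSidedIdeal.mk' (LinearMap.range (LinearMap.lTensor K S.subtype) : Set (K ⊗[k] A))
      (zero_mem _) (fun hx hy => add_mem hx hy) (fun hx => neg_mem hx)
      (by
        rintro r _ ⟨y, rfl⟩
        induction r using TensorProduct.induction_on with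
        | zero => simp
        | tmul c b =>
          induction y using TensorProduct.induction_on with
          | zero => simp
          | tmul d s =>
            exact ⟨(c * d) ⊗ₜ ⟨b * s, I.mul_mem_left _ _ s.2⟩, by simp⟩
          | add y z hy hz => rw [map_add, mul_add]; exact add_mem hy hz
        | add r s hr hs => rw [add_mul]; exact add_mem hr hs)
      (by
        rintro _ r ⟨y, rfl⟩
        induction r using TensorProduct.induction_on with
        | zero => simp
        | tmul c b =>
          induction y using TensorProduct.induction_on with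
          | zero => simp
          | tmul d s =>
            exact ⟨(d * c) ⊗ₜ ⟨s * b, I.mul_mem_right _ _ s.2⟩, by simp⟩
          | add y z hy hz => rw [map_add, add_mul]; exact add_mem hy hz
        | add r s hr hs => rw [mul_add]; exact add_mem hr hs)
    have hTW : T ≤ W := TwoSidedIdeal.span_le.2 (by
      rintro _ rfl
      exact (TwoSidedIdeal.mem_mk' ..).2 ⟨(1 : K) ⊗ₜ ⟨a, ha⟩, by simp⟩)
    obtain ⟨y, hy⟩ := (TwoSidedIdeal.mem_mk' ..).1 (hTW hT)
    have hz : LinearMap.lTensor K φ (LinearMap.lTensor K S.subtype y) = 0 := by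
      rw [← LinearMap.comp_apply, ← LinearMap.lTensor_comp]
      have : φ.comp S.subtype = 0 := LinearMap.ext fun s => by
        have : φ s ∈ S.map φ := ⟨s, s.2, rfl⟩
        simpa [hφ] using this
      simp [this]
    rw [hy, Algebra.TensorProduct.one_def] at hz
    have := congr_arg (TensorProduct.rid k K) hz
    simp at this
    exact hφ1 this

theorem splits_isSepClosed [IsSepClosed K] [Algebra.IsCentral k A] [IsSimpleRing A]
    [FiniteDimensional k A] : Curves.Splits k A K := by
  have := Csa25.isCentral_baseChange k A K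
  have := Csa25.isSimpleRing_baseChange k A K
  obtain ⟨n, hn, h⟩ := Csa25.exists_algEquiv_matrix_of_isSepClosed K (K ⊗[k] A)
  exact ⟨n, hn.ne', h⟩

end Descent

section C1

open MvPolynomial

theorem finrank_eq_one_of_isCr_one {K : Type u} [Field K] (hK : Curves.IsCr K 1)
    (D : Type v) [DivisionRing D] [Algebra K D] [Algebra.IsCentral K D] [FiniteDimensional K D] :
    finrank K D = 1 := by
  classical
  obtain ⟨E, hE, hgal, n, hn, ⟨e⟩⟩ := Csa25.exists_galois_splitting K D
  have hdim : finrank K D = n * n := by
    have h := e.toLinearEquiv.finrank_eq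
    rwa [Module.finrank_baseChange, Module.finrank_matrix, Fintype.card_fin, Module.finrank_self,
      mul_one] at h
  by_contra hne
  have hn2 : n < n * n := by
    rcases Nat.lt_or_ge 1 n with h | h
    · exact lt_mul_self h
    · interval_cases n <;> simp_all
  let b := Module.finBasis K D
  let φ : D →ₐ[K] Matrix (Fin n) (Fin n) E :=
    (e.toAlgHom.restrictScalars K).comp Algebra.TensorProduct.includeRight
  let M : Matrix (Fin n) (Fin n) (MvPolynomial (Fin (finrank K D)) E) :=
    Matrix.of fun i j => ∑ l, C (φ (b l) i j) * X l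
  have hP : M.det.IsHomogeneous n := by
    rw [Matrix.det_apply']
    refine IsHomogeneous.sum _ _ _ fun σ _ => ?_
    have := (isHomogeneous_C (Fin (finrank K D)) ((Equiv.Perm.sign σ : ℤ) : E)).mul
      (IsHomogeneous.prod Finset.univ (fun i => M (σ i) i) (fun _ => 1) fun i _ => by
        simp only [M, Matrix.of_apply]
        exact IsHomogeneous.sum _ _ _ fun l _ => isHomogeneous_C_mul_X _ _)
    simpa using this
  have hinv : ∀ σ : E ≃ₐ[K] E, MvPolynomial.map σ.toRingEquiv.toRingHom M.det = M.det := by
    intro σ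
    let ψ : D →ₐ[K] Matrix (Fin n) (Fin n) E := σ.toAlgHom.mapMatrix.comp φ
    let A1 : E ⊗[K] D →ₐ[E] Matrix (Fin n) (Fin n) E :=
      Algebra.TensorProduct.lift (Algebra.ofId E _) ψ fun x d => Algebra.commutes x (ψ d)
    let T : Matrix (Fin n) (Fin n) E →ₐ[E] Matrix (Fin n) (Fin n) E := A1.comp e.symm.toAlgHom
    have : NeZero n := ⟨hn⟩
    have hTinj : Function.Injective T := T.toRingHom.injective
    let Te : Matrix (Fin n) (Fin n) E ≃ₐ[E] Matrix (Fin n) (Fin n) E := AlgEquiv.ofBijective T ⟨hTinj,
      (LinearMap.injective_iff_surjective (f := T.toLinearMap)).1 hTinj⟩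
    let Te' : Module.End E (Fin n → E) ≃ₐ[E] Module.End E (Fin n → E) :=
      (Matrix.toLinAlgEquiv'.symm.trans Te).trans Matrix.toLinAlgEquiv'
    obtain ⟨U, hU⟩ := AlgEquiv.eq_linearEquivConjAlgEquiv Te'
    let u : Matrix (Fin n) (Fin n) E := LinearMap.toMatrix' U.toLinearMap
    let u' : Matrix (Fin n) (Fin n) E := LinearMap.toMatrix' U.symm.toLinearMap
    have huu' : u * u' = 1 := by rw [← LinearMap.toMatrix'_comp]; simp
    have hconj : ∀ d, σ.toAlgHom.mapMatrix (φ d) = u * φ d * u' := by
      intro d
      have h1 : Te (φ d) = ψ d := by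
        show A1 (e.symm (e ((1 : E) ⊗ₜ[K] d))) = ψ d
        rw [e.symm_apply_apply]
        exact (Algebra.TensorProduct.lift_tmul _ _ _ _ _).trans (by simp)
      have h2 := congr_arg (fun g => g (Matrix.toLinAlgEquiv' (φ d))) hU
      simp only [Te', AlgEquiv.trans_apply, AlgEquiv.symm_apply_apply,
        h1, LinearEquiv.conjAlgEquiv_apply] at h2
      change ψ d = _
      apply Matrix.toLinAlgEquiv'.injective
      rw [h2, map_mul, map_mul]
      apply LinearMap.ext
      intro v
      simp [u, u', LinearMap.toMatrix'_mulVec, -Matrix.mulVec_mulVec]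
    have hMσ : M.map (MvPolynomial.map σ.toRingEquiv.toRingHom) = u.map C * M * u'.map C := by
      refine Matrix.ext fun i j => ?_
      have hrhs : ((u.map C * M * u'.map C : Matrix (Fin n) (Fin n) (MvPolynomial (Fin (finrank K D)) E))) i j = ∑ l, C ((u * φ (b l) * u') i j) * X l := by
        simp only [Matrix.mul_apply, Matrix.map_apply, M, Matrix.of_apply, map_sum, map_mul,
          Finset.mul_sum, Finset.sum_mul]
        rw [Finset.sum_comm (γ := Fin (finrank K D))]
        refine Finset.sum_congr rfl fun q _ => ?_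
        rw [Finset.sum_comm]
        refine Finset.sum_congr rfl fun p _ => Finset.sum_congr rfl fun l _ => ?_
        ring
      rw [hrhs]
      simp [M, map_sum, ← hconj]
    rw [RingHom.map_det, RingHom.mapMatrix_apply, hMσ, Matrix.det_mul, Matrix.det_mul,
      mul_right_comm, ← Matrix.det_mul, ← Matrix.map_mul, huu', Matrix.map_one _ C.map_zero C.map_one,
      Matrix.det_one, one_mul]
  obtain ⟨P, hP'⟩ : M.det ∈ Set.range (MvPolynomial.map (algebraMap K E)) := by
    refine mem_range_map_iff_coeffs_subset.2 ?_
    intro x hx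
    obtain ⟨m, -, rfl⟩ := mem_coeffs_iff.1 hx
    refine (IsGalois.mem_range_algebraMap_iff_fixed _).2 fun σ => ?_
    have h := congr_arg (MvPolynomial.coeff m) (hinv σ)
    rwa [coeff_map] at h
  obtain ⟨a, ha, hz⟩ := hK (finrank K D) n P
    (IsHomogeneous.of_map (algebraMap K E).injective (hP' ▸ hP)) (Nat.pos_of_ne_zero hn)
    (by rw [pow_one, hdim]; exact hn2)
  let x : D := ∑ l, a l • b l
  have hx : x ≠ 0 := fun h => ha (funext fun l =>
    Fintype.linearIndependent_iff.1 b.linearIndependent _ h l)
  have hdet : (φ x).det = 0 := by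
    have h1 : φ x = M.map (eval fun l => algebraMap K E (a l)) := by
      refine Matrix.ext fun i j => ?_
      simp only [x, M, map_sum, map_smul, Matrix.sum_apply, Matrix.smul_apply, Matrix.map_apply, Matrix.of_apply]
      simp [Algebra.smul_def, mul_comm]
    rw [h1, ← RingHom.mapMatrix_apply, ← RingHom.map_det, ← hP', eval_map]
    have := congr_arg (algebraMap K E) hz
    rw [map_zero, eval₂_comp] at this
    exact this
  exact ((Matrix.isUnit_iff_isUnit_det _).1 ((isUnit_iff_ne_zero.2 hx).map φ)).ne_zero hdet

end C1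

end Groth.Agent.Csa77
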