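import Groth.Agent.Csa25.BrauerGroup
import Groth.Agent.Csa25.Subfield
import Groth.Agent.Csa25.Splitting
import Mathlib.Algebra.Central.Matrix

set_option autoImplicit false
open scoped TensorProduct
open Module MulOpposite

namespace Groth.Agent.Csa77

universe u v w

/-- `M₁(A) ≃ A`. -/
def oneEquiv (k : Type u) [CommSemiring k] (A : Type v) [Semiring A] [Algebra k A] :
    Matrix (Fin 1) (Fin 1) A ≃ₐ[k] A where
  toFun M := M 0 0
  invFun a := Matrix.of fun _ _ => a
  left_inv M := Matrix.ext fun i j => by simp [Fin.fin_one_eq_zero i, Fin.fin_one_eq_zero j]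
  right_inv _ := rfl
  map_mul' M N := by simp [Matrix.mul_apply]
  map_add' _ _ := rfl
  commutes' r := by simp [Matrix.algebraMap_matrix_apply]

/-- A splitting field of degree `M` of a division algebra `D` embeds into a matrix algebra over `D`
of dimension `M ^ 2`. -/
theorem exists_embedding {k : Type u} [Field k] {D : Type v} [DivisionRing D] [Algebra k D]
    [FiniteDimensional k D] {L : Type w} [Field L] [Algebra k L] [FiniteDimensional k L] {d : ℕ}
    (hd : finrank k D = d * d) (e : L ⊗[k] D ≃ₐ[L] Matrix (Fin d) (Fin d) L) :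
    ∃ (r : ℕ) (_ : L →ₐ[k] Matrix (Fin r) (Fin r) D), r * d = finrank k L := by
  classical
  let φ : D →ₐ[k] Matrix (Fin d) (Fin d) L :=
    (e.toAlgHom.restrictScalars k).comp Algebra.TensorProduct.includeRight
  let ψ : Dᵐᵒᵖ →ₐ[k] Module.End k (Fin d → L) :=
    { toFun := fun x => (Matrix.mulVecLin (φ x.unop).transpose).restrictScalars k
      map_one' := by ext; simp
      map_zero' := by ext; simp
      map_mul' := fun a b => by
        apply LinearMap.ext; intro z
        simp [Matrix.transpose_mul, ← Matrix.mulVec_mulVec]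
      map_add' := fun a b => by
        apply LinearMap.ext; intro z
        simp [Matrix.add_mulVec]
      commutes' := fun c => by
        apply LinearMap.ext; intro z
        simp [Algebra.algebraMap_eq_smul_one, Matrix.smul_mulVec] }
  let : Module Dᵐᵒᵖ (Fin d → L) := Module.compHom _ ψ.toRingHom
  have hsmul : ∀ (x : Dᵐᵒᵖ) (v : Fin d → L), x • v = Matrix.mulVec (φ x.unop).transpose v :=
    fun _ _ => rfl
  have : IsScalarTower k Dᵐᵒᵖ (Fin d → L) := ⟨fun c x v => by
    simp [hsmul, Matrix.smul_mulVec]⟩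
  have : SMulCommClass Dᵐᵒᵖ L (Fin d → L) := ⟨fun x l v => by
    simp [hsmul, Matrix.mulVec_smul]⟩
  have : SMulCommClass L Dᵐᵒᵖ (Fin d → L) := SMulCommClass.symm _ _ _
  have : Module.Finite Dᵐᵒᵖ (Fin d → L) := Module.Finite.of_restrictScalars_finite k _ _
  let bV := Module.finBasis Dᵐᵒᵖ (Fin d → L)
  set r := finrank Dᵐᵒᵖ (Fin d → L)
  let j : L →ₐ[k] Module.End Dᵐᵒᵖ (Fin d → L) :=
    { toFun := fun l =>
        { toFun := fun v => l • v
          map_add' := smul_add l
          map_smul' := fun x v => smul_comm l x v }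
      map_one' := LinearMap.ext (one_smul L)
      map_mul' := fun a b => LinearMap.ext fun v => mul_smul a b v
      map_zero' := LinearMap.ext (zero_smul L)
      map_add' := fun a b => LinearMap.ext fun v => add_smul a b v
      commutes' := fun c => LinearMap.ext fun v => algebraMap_smul L c v }
  let E : Module.End Dᵐᵒᵖ (Fin d → L) ≃ₐ[k] Matrix (Fin r) (Fin r) D :=
    (bV.equivFun.conjAlgEquiv k).trans ((endVecAlgEquivMatrixEnd (Fin r) k Dᵐᵒᵖ Dᵐᵒᵖ).trans
      ((AlgEquiv.moduleEndSelf k (A := Dᵐᵒᵖ)).symm.trans (AlgEquiv.opOp k D).symm).mapMatrix)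
  refine ⟨r, E.toAlgHom.comp j, ?_⟩
  have h := Module.finrank_mul_finrank k Dᵐᵒᵖ (Fin d → L)
  rw [← (opLinearEquiv k : D ≃ₗ[k] Dᵐᵒᵖ).finrank_eq, hd, Module.finrank_pi_fintype,
    Finset.sum_const, Finset.card_univ, Fintype.card_fin, smul_eq_mul] at h
  change d * d * r = _ at h
  have hd0 : 0 < d := Nat.pos_of_ne_zero fun h0 => by
    simp [h0, Module.finrank_pos.ne'] at hd
  exact Nat.eq_of_mul_eq_mul_left hd0 (by rw [← h]; ring)

theorem splits_iff_of_isBrauerEquivalent {k : Type u} [Field k] {A B : CSA.{u, u} k}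
    (L : Type u) [Field L] [Algebra k L] (h : IsBrauerEquivalent A B) :
    Curves.Splits k A L ↔ Curves.Splits k B L := by
  rw [Csa25.splits_iff_res_eq_one, Csa25.splits_iff_res_eq_one, Csa25.cl_eq_iff.2 h]

theorem splitting_iff {k : Type u} [Field k] (A : CSA.{u, u} k) (k' : Type u) [Field k']
    [Algebra k k'] [FiniteDimensional k k'] :
    Curves.Splits k A k' ↔ ∃ (B : CSA.{u, u} k) (_ : k' →ₐ[k] B), IsBrauerEquivalent A B ∧
      Module.finrank k B = Module.finrank k k' ^ 2 := by
  classical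
  constructor
  · intro hs
    obtain ⟨m, D, iD, iA, hm, hDc, hDf, ⟨e⟩⟩ := Csa25.exists_division k A
    have : NeZero m := ⟨hm.ne'⟩
    let AD : CSA.{u, u} k := { toAlgCat := AlgCat.of k D }
    have hAD : IsBrauerEquivalent A AD :=
      ⟨1, m, one_ne_zero, hm.ne', ⟨(oneEquiv k A).trans e⟩⟩
    obtain ⟨d, hd0, ⟨eD⟩⟩ := (splits_iff_of_isBrauerEquivalent k' hAD).1 hs
    have hdim : finrank k D = d * d := by
      have h := eD.toLinearEquiv.finrank_eq
      rwa [Module.finrank_baseChange, Module.finrank_matrix, Fintype.card_fin, Module.finrank_self,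
        mul_one] at h
    obtain ⟨r, ι, hr⟩ := exists_embedding hdim eD
    have hr0 : r ≠ 0 := fun h => by
      rw [h, zero_mul] at hr
      exact Module.finrank_pos.ne hr
    have : NeZero r := ⟨hr0⟩
    let B : CSA.{u, u} k := { toAlgCat := AlgCat.of k (Matrix (Fin r) (Fin r) D) }
    refine ⟨B, ι, hAD.trans ⟨r, 1, hr0, one_ne_zero,
      ⟨(oneEquiv k (Matrix (Fin r) (Fin r) D)).symm⟩⟩, ?_⟩
    show finrank k (Matrix (Fin r) (Fin r) D) = _
    rw [Module.finrank_matrix, Fintype.card_fin, hdim, ← hr]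
    ring
  · rintro ⟨B, ι, hAB, hdim⟩
    rw [splits_iff_of_isBrauerEquivalent k' hAB]
    exact Csa25.splits_of_subfield ι rfl (by rw [hdim, sq])

end Groth.Agent.Csa77
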