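import Groth.Agent.Csa25.Basic
import Groth.Agent.Csa25.Centralizer
import Mathlib.RingTheory.SimpleModule.WedderburnArtin
import Mathlib.RingTheory.SimpleRing.Matrix

set_option autoImplicit false
open scoped TensorProduct
open Module MulOpposite

namespace Groth.Agent.Csa77

universe u v w

theorem isSimpleRing_end {R : Type u} [Ring R] [IsSimpleRing R] [IsArtinianRing R]
    (M : Type v) [AddCommGroup M] [Module R M] [Module.Finite R M] [Nontrivial M] :
    IsSimpleRing (Module.End R M) := by
  obtain ⟨n, hn, S, hS, ⟨e⟩⟩ := (IsSimpleRing.isIsotypic R M).linearEquiv_fun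
  classical
  let e' : Module.End R M ≃+* Matrix (Fin n) (Fin n) (Module.End R S) :=
    e.conjRingEquiv.trans (endVecRingEquivMatrixEnd ..)
  exact .of_ringEquiv e'.symm inferInstance

theorem centralizer_isSimpleRing {k : Type u} [Field k] {A : Type v} [Ring A] [Algebra k A]
    [Algebra.IsCentral k A] [IsSimpleRing A] [FiniteDimensional k A]
    {B : Type w} [Ring B] [Algebra k B] [IsSimpleRing B] (f : B →ₐ[k] A) :
    IsSimpleRing (Subalgebra.centralizer k (Set.range f)) := by
  have : FiniteDimensional k B := Module.Finite.of_injective f.toLinearMap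
    (RingHom.injective f.toRingHom)
  have : IsSimpleRing (Aᵐᵒᵖ ⊗[k] B) := Csa25.isSimpleRing_tensor
  have : IsSimpleRing (B ⊗[k] Aᵐᵒᵖ) :=
    .of_ringEquiv (Algebra.TensorProduct.comm k Aᵐᵒᵖ B).toRingEquiv this
  have : IsArtinianRing (B ⊗[k] Aᵐᵒᵖ) := IsArtinianRing.of_finite k _
  let act : B ⊗[k] Aᵐᵒᵖ →ₐ[k] Module.End k A :=
    (AlgHom.mulLeftRight k A).comp (Algebra.TensorProduct.map f (AlgHom.id k Aᵐᵒᵖ))
  let : Module (B ⊗[k] Aᵐᵒᵖ) A := Module.compHom A act.toRingHom
  have hsmul : ∀ (x : B ⊗[k] Aᵐᵒᵖ) (a : A), x • a = act x a := fun _ _ => rfl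
  have hbc : ∀ (b : B) (c x : A), (b ⊗ₜ[k] op c : B ⊗[k] Aᵐᵒᵖ) • x = f b * x * c := by
    intro b c x; simp [hsmul, act]
  have : IsScalarTower k (B ⊗[k] Aᵐᵒᵖ) A := ⟨fun c x a => by rw [hsmul, hsmul, map_smul]; rfl⟩
  have : Module.Finite (B ⊗[k] Aᵐᵒᵖ) A := Module.Finite.of_restrictScalars_finite k _ _
  let C := Subalgebra.centralizer k (Set.range f)
  let Φ : C →+* Module.End (B ⊗[k] Aᵐᵒᵖ) A :=
    { toFun := fun c =>
        { toFun := fun x => (c : A) * x
          map_add' := mul_add _
          map_smul' := fun r x => by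
            induction r using TensorProduct.induction_on with
            | zero => simp [hsmul]
            | tmul b a =>
              obtain ⟨a, rfl⟩ := op_surjective a
              simp only [RingHom.id_apply, hbc, ← mul_assoc]
              rw [← (Subalgebra.mem_centralizer_iff k).mp c.2 (f b) ⟨b, rfl⟩]
            | add r s hr hs =>
              simp only [RingHom.id_apply, hsmul, map_add, LinearMap.add_apply, mul_add] at hr hs ⊢
              rw [hr, hs] }
      map_one' := LinearMap.ext fun x => one_mul x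
      map_mul' := fun a b => LinearMap.ext fun x => mul_assoc (a : A) b x
      map_zero' := LinearMap.ext fun x => zero_mul x
      map_add' := fun c d => LinearMap.ext fun x => add_mul (c : A) d x }
  have hinj : Function.Injective Φ := fun c d h => Subtype.ext (by
    simpa [Φ] using LinearMap.congr_fun h 1)
  have hsurj : Function.Surjective Φ := by
    intro g
    have hr : ∀ x : A, g x = g 1 * x := fun x => by
      have := map_smul g ((1 : B) ⊗ₜ[k] op x) (1 : A)
      simpa [hbc] using this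
    refine ⟨⟨g 1, ?_⟩, LinearMap.ext fun x => (hr x).symm⟩
    rw [Subalgebra.mem_centralizer_iff]
    rintro _ ⟨b, rfl⟩
    have := map_smul g (b ⊗ₜ[k] op (1 : A)) (1 : A)
    simp only [hbc, mul_one] at this
    rw [← this, hr]
  have := isSimpleRing_end (R := B ⊗[k] Aᵐᵒᵖ) A
  exact .of_ringEquiv (RingEquiv.ofBijective Φ ⟨hinj, hsurj⟩).symm this

theorem range_val {k : Type u} [Field k] {A : Type v} [Ring A] [Algebra k A] (B : Subalgebra k A) :
    Set.range B.val = (B : Set A) := Subtype.range_coe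

theorem double_centralizer {k : Type u} [Field k] {A : Type v} [Ring A] [Algebra k A]
    [Algebra.IsCentral k A] [IsSimpleRing A] [FiniteDimensional k A]
    (B : Subalgebra k A) [IsSimpleRing B] :
    Subalgebra.centralizer k (Subalgebra.centralizer k (B : Set A) : Set A) = B := by
  set C := Subalgebra.centralizer k (B : Set A) with hC
  have : IsSimpleRing C := by
    have h := centralizer_isSimpleRing B.val
    rwa [range_val] at h
  have h1 := Csa25.finrank_mul_finrank_centralizer B.val
  rw [range_val, ← hC] at h1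
  have h2 := Csa25.finrank_mul_finrank_centralizer C.val
  rw [range_val] at h2
  have hle : B ≤ Subalgebra.centralizer k (C : Set A) := fun b hb => by
    rw [Subalgebra.mem_centralizer_iff]
    exact fun c hc => ((Subalgebra.mem_centralizer_iff k).1 hc b hb).symm
  symm
  apply Subalgebra.toSubmodule_injective
  exact Submodule.eq_of_le_of_finrank_eq hle
    (Nat.eq_of_mul_eq_mul_left Module.finrank_pos
      (by rw [mul_comm]; exact h1.trans h2.symm))

theorem tensor_centralizer_bijective {k : Type u} [Field k] {A : Type v} [Ring A] [Algebra k A]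
    [Algebra.IsCentral k A] [IsSimpleRing A] [FiniteDimensional k A]
    (B : Subalgebra k A) [IsSimpleRing B] [Algebra.IsCentral k B] :
    Function.Bijective (Algebra.TensorProduct.lift B.val (Subalgebra.centralizer k (B : Set A)).val
      (fun x y => y.2 x.1 x.2)) := by
  set C := Subalgebra.centralizer k (B : Set A) with hC
  have : IsSimpleRing C := by
    have h := centralizer_isSimpleRing B.val
    rwa [range_val] at h
  have : IsSimpleRing (B ⊗[k] C) := Csa25.isSimpleRing_tensor
  have h1 := Csa25.finrank_mul_finrank_centralizer B.val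
  rw [range_val, ← hC] at h1
  set Φ := Algebra.TensorProduct.lift B.val C.val (fun x y => y.2 x.1 x.2)
  have hinj : Function.Injective Φ := Φ.toRingHom.injective
  exact ⟨hinj, (LinearMap.injective_iff_surjective_of_finrank_eq_finrank (f := Φ.toLinearMap)
    (by rw [Module.finrank_tensorProduct]; exact h1)).mp hinj⟩

theorem twoSidedIdeal_eq_span {k : Type u} [Field k] {A : Type v} [Ring A] [Algebra k A]
    {K : Type w} [Ring K] [Algebra k K] [Algebra.IsCentral k K] [IsSimpleRing K]
    (I : TwoSidedIdeal (A ⊗[k] K)) :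
    I = TwoSidedIdeal.span ((fun a : A => a ⊗ₜ[k] (1 : K)) '' {a : A | a ⊗ₜ[k] (1 : K) ∈ I}) := by
  classical
  refine le_antisymm ?_ ?_
  swap
  · rw [TwoSidedIdeal.span_le]
    rintro _ ⟨a, ha, rfl⟩
    exact ha
  set J := TwoSidedIdeal.span ((fun a : A => a ⊗ₜ[k] (1 : K)) '' {a : A | a ⊗ₜ[k] (1 : K) ∈ I})
  let inc : A →ₐ[k] A ⊗[k] K := Algebra.TensorProduct.includeLeft
  let a₀ : TwoSidedIdeal A := I.comap inc
  have ha₀ : ∀ a, a ∈ a₀ → a ⊗ₜ[k] (1 : K) ∈ I := fun a ha => by
    simpa [a₀, inc, TwoSidedIdeal.mem_comap] using ha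
  let S : Submodule k A :=
    { carrier := a₀
      add_mem' := fun ha hb => a₀.add_mem ha hb
      zero_mem' := a₀.zero_mem
      smul_mem' := fun c a ha => by
        rw [Algebra.smul_def]; exact a₀.mul_mem_left _ _ ha }
  let q : A →ₗ[k] A ⧸ S := S.mkQ
  have hker : ∀ x, LinearMap.rTensor K q x = 0 → x ∈ J := by
    intro x hx
    have := (rTensor_exact K (LinearMap.exact_subtype_mkQ S) S.mkQ_surjective x).1 hx
    obtain ⟨y, rfl⟩ := this
    clear hx
    induction y using TensorProduct.induction_on with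
    | zero => simp [J.zero_mem]
    | tmul a c =>
      rw [LinearMap.rTensor_tmul]
      have h1 : (S.subtype a) ⊗ₜ[k] c = (S.subtype a) ⊗ₜ[k] (1 : K) * ((1 : A) ⊗ₜ[k] c) := by simp
      rw [h1]
      exact J.mul_mem_right _ _ (TwoSidedIdeal.subset_span ⟨_, ha₀ _ a.2, rfl⟩)
    | add y z hy hz => rw [map_add]; exact J.add_mem hy hz
  intro x hx
  by_contra hxJ
  -- ring structure on the quotient
  let ρ : A →+* a₀.ringCon.Quotient := a₀.ringCon.mk'
  let B := a₀.ringCon.Quotient
  let π : A →ₐ[k] B := a₀.ringCon.mkₐ k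
  let φ : A ⊗[k] K →ₐ[k] B ⊗[k] K := Algebra.TensorProduct.map π (AlgHom.id k K)
  have hπsurj : Function.Surjective π := Quotient.mk''_surjective
  have hφsurj : Function.Surjective φ := TensorProduct.map_surjective hπsurj Function.surjective_id
  have hπker : ∀ a, π a = 0 ↔ a ∈ a₀ := fun a => by
    rw [TwoSidedIdeal.mem_iff, ← map_zero π]
    exact a₀.ringCon.eq
  have hφker : ∀ y, φ y = 0 → y ∈ J := by
    intro y hy
    apply hker
    let L : B →ₗ[k] A ⧸ S :=
      { toFun := fun b => Quotient.liftOn' b q fun a c h => (Submodule.Quotient.eq S).2 ((TwoSidedIdeal.rel_iff a₀ a c).1 h)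
        map_add' := fun b c => Quotient.inductionOn₂' b c fun _ _ => rfl
        map_smul' := fun r b => Quotient.inductionOn' b fun _ => rfl }
    have : LinearMap.rTensor K q y = LinearMap.rTensor K L (φ y) := by
      clear hy
      induction y using TensorProduct.induction_on with
      | zero => simp
      | tmul a c => simp only [φ, Algebra.TensorProduct.map_tmul, LinearMap.rTensor_tmul]; rfl
      | add y z hy hz => simp only [map_add, hy, hz]
    rw [this, hy, map_zero]
  let I' : TwoSidedIdeal (B ⊗[k] K) := TwoSidedIdeal.mk' (φ '' (I : Set (A ⊗[k] K)))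
    ⟨0, I.zero_mem, map_zero φ⟩
    (by rintro _ _ ⟨a, ha, rfl⟩ ⟨b, hb, rfl⟩; exact ⟨a + b, I.add_mem ha hb, map_add φ a b⟩)
    (by rintro _ ⟨a, ha, rfl⟩; exact ⟨-a, I.neg_mem ha, map_neg φ a⟩)
    (by rintro r _ ⟨a, ha, rfl⟩; obtain ⟨s, rfl⟩ := hφsurj r; exact ⟨s * a, I.mul_mem_left _ _ ha, map_mul φ s a⟩)
    (by rintro _ r ⟨a, ha, rfl⟩; obtain ⟨s, rfl⟩ := hφsurj r; exact ⟨a * s, I.mul_mem_right _ _ ha, map_mul φ a s⟩)
  have hxI : φ x ∈ I' := (TwoSidedIdeal.mem_mk' ..).2 ⟨x, hx, rfl⟩
  let comm : K ⊗[k] B ≃ₐ[k] B ⊗[k] K := Algebra.TensorProduct.comm k K B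
  let I'' : TwoSidedIdeal (K ⊗[k] B) := I'.comap comm
  have hne : I'' ≠ ⊥ := by
    intro h
    have h1 : comm.symm (φ x) ∈ I'' := by simpa [I'', TwoSidedIdeal.mem_comap] using hxI
    rw [h, TwoSidedIdeal.mem_bot] at h1
    exact hxJ (hφker x (comm.symm.injective (by simpa using h1)))
  obtain ⟨b, hb0, hb⟩ := Csa25.exists_one_tmul_mem hne
  have hb' : b ⊗ₜ[k] (1 : K) ∈ I' := by simpa [I'', comm, TwoSidedIdeal.mem_comap] using hb
  obtain ⟨y, hy, hyb⟩ := (TwoSidedIdeal.mem_mk' ..).1 hb'
  obtain ⟨a, rfl⟩ := hπsurj b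
  apply hb0
  rw [hπker]
  have hd : φ (y - a ⊗ₜ[k] (1 : K)) = 0 := by rw [map_sub, hyb]; simp [φ]
  have hJI : J ≤ I := TwoSidedIdeal.span_le.2 (by rintro _ ⟨c, hc, rfl⟩; exact hc)
  have := I.sub_mem hy (hJI (hφker _ hd))
  simpa [a₀, inc, TwoSidedIdeal.mem_comap] using this

end Groth.Agent.Csa77
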